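import Mathlib.LinearAlgebra.CliffordAlgebra.Contraction
import Mathlib.LinearAlgebra.ExteriorPower.Basic
import Mathlib.RingTheory.Regular.RegularSequence
import Groth.Prelude.Def_KoszulSh

/-!
Exactness in positive degrees of the Koszul complex of a form on a module with a basis sent to a weakly
regular sequence, inside the exterior algebra.
-/

set_option autoImplicit false

universe u

open CliffordAlgebra (contractLeft contractLeft_ι_mul contractLeft_algebraMap contractLeft_one)

noncomputable section

namespace Groth.Agent.KoszSh16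

variable {R : Type u} [CommRing R] {M : Type u} [AddCommGroup M] [Module R M]

/-- The image of a submodule in degree one of the exterior algebra. -/
abbrev deg1 (N : Submodule R M) : Submodule R (ExteriorAlgebra R M) := N.map (ExteriorAlgebra.ι R)

theorem contract_mul (φ : M →ₗ[R] R) (m : M) (z : ExteriorAlgebra R M) :
    contractLeft φ (ExteriorAlgebra.ι R m * z) =
      φ m • z - ExteriorAlgebra.ι R m * contractLeft φ z :=
  contractLeft_ι_mul φ m z

theorem contract_mem (φ : M →ₗ[R] R) (N : Submodule R M) :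
    ∀ (p : ℕ) (x : ExteriorAlgebra R M), x ∈ deg1 N ^ (p + 1) → contractLeft φ x ∈ deg1 N ^ p := by
  intro p
  induction p with
  | zero =>
    intro x hx
    rw [zero_add, pow_one] at hx
    obtain ⟨m, -, rfl⟩ := hx
    rw [pow_zero, Submodule.mem_one]
    exact ⟨φ m, (CliffordAlgebra.contractLeft_ι (0 : QuadraticForm R M) φ m).symm⟩
  | succ p ih =>
    intro x hx
    rw [pow_succ'] at hx
    induction hx using Submodule.mul_induction_on' with
    | mem_mul_mem a ha z hz =>
      obtain ⟨m, hm, rfl⟩ := ha
      rw [contract_mul]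
      refine sub_mem (Submodule.smul_mem _ _ hz) ?_
      rw [pow_succ']
      exact Submodule.mul_mem_mul ⟨m, hm, rfl⟩ (ih z hz)
    | add a _ b _ ha hb => rw [map_add]; exact add_mem ha hb

theorem contract_eq_zero (ε : M →ₗ[R] R) (N : Submodule R M) (h : ∀ m ∈ N, ε m = 0) :
    ∀ (p : ℕ) (x : ExteriorAlgebra R M), x ∈ deg1 N ^ p → contractLeft ε x = 0 := by
  intro p
  induction p with
  | zero =>
    intro x hx
    rw [pow_zero, Submodule.mem_one] at hx
    obtain ⟨r, rfl⟩ := hx
    exact contractLeft_algebraMap (0 : QuadraticForm R M) ε r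
  | succ p ih =>
    intro x hx
    rw [pow_succ'] at hx
    induction hx using Submodule.mul_induction_on' with
    | mem_mul_mem a ha z hz =>
      obtain ⟨m, hm, rfl⟩ := ha
      rw [contract_mul, h m hm, ih z hz, zero_smul, mul_zero, sub_zero]
    | add a _ b _ ha hb => rw [map_add, ha, hb, add_zero]

theorem decompose (N : Submodule R M) (e : M) :
    ∀ (p : ℕ) (x : ExteriorAlgebra R M), x ∈ deg1 (N ⊔ R ∙ e) ^ (p + 1) →
      ∃ a ∈ deg1 N ^ (p + 1), ∃ b ∈ deg1 N ^ p, x = a + ExteriorAlgebra.ι R e * b := by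
  intro p
  induction p with
  | zero =>
    intro x hx
    rw [zero_add, pow_one] at hx
    obtain ⟨m, hm, rfl⟩ := hx
    obtain ⟨n, hn, z, hz, rfl⟩ := Submodule.mem_sup.1 hm
    obtain ⟨r, rfl⟩ := Submodule.mem_span_singleton.1 hz
    refine ⟨ExteriorAlgebra.ι R n, by rw [zero_add, pow_one]; exact ⟨n, hn, rfl⟩,
      algebraMap R _ r, by rw [pow_zero, Submodule.mem_one]; exact ⟨r, rfl⟩, ?_⟩
    rw [map_add, map_smul, ← Algebra.commutes, Algebra.smul_def]
  | succ p ih =>
    intro x hx
    rw [pow_succ'] at hx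
    induction hx using Submodule.mul_induction_on' with
    | mem_mul_mem w hw z hz =>
      obtain ⟨m, hm, rfl⟩ := hw
      obtain ⟨n, hn, z', hz', rfl⟩ := Submodule.mem_sup.1 hm
      obtain ⟨r, rfl⟩ := Submodule.mem_span_singleton.1 hz'
      obtain ⟨a, ha, b, hb, rfl⟩ := ih z hz
      refine ⟨ExteriorAlgebra.ι R n * a, ?_, r • a - ExteriorAlgebra.ι R n * b, ?_, ?_⟩
      · rw [pow_succ']; exact Submodule.mul_mem_mul ⟨n, hn, rfl⟩ ha
      · refine sub_mem (Submodule.smul_mem _ _ ha) ?_
        rw [pow_succ']; exact Submodule.mul_mem_mul ⟨n, hn, rfl⟩ hb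
      · have h1 : ExteriorAlgebra.ι R e * ExteriorAlgebra.ι R e = 0 := ExteriorAlgebra.ι_sq_zero e
        have h2 : ExteriorAlgebra.ι R n * ExteriorAlgebra.ι R e =
            -(ExteriorAlgebra.ι R e * ExteriorAlgebra.ι R n) := eq_neg_of_add_eq_zero_left
          (CliffordAlgebra.ι_mul_ι_add_swap n e |>.trans (by simp [QuadraticMap.polar]))
        simp only [map_add, map_smul, add_mul, mul_add, mul_sub, smul_mul_assoc, mul_smul_comm, ← mul_assoc,
          h1, h2, neg_mul, zero_mul, smul_zero]
        abel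
    | add a _ b _ ha hb =>
      obtain ⟨a₁, ha₁, b₁, hb₁, rfl⟩ := ha
      obtain ⟨a₂, ha₂, b₂, hb₂, rfl⟩ := hb
      exact ⟨a₁ + a₂, add_mem ha₁ ha₂, b₁ + b₂, add_mem hb₁ hb₂, by rw [mul_add]; abel⟩

variable {n : ℕ}

/-- The span of the first `k` vectors. -/
abbrev firstSpan (b : Fin n → M) (k : ℕ) : Submodule R M := Submodule.span R (b '' {j | (j : ℕ) < k})

theorem exists_boundary_first (φ : M →ₗ[R] R) (b : Module.Basis (Fin n) R M)
    (hreg : RingTheory.Sequence.IsWeaklyRegular R (List.ofFn fun j => φ (b j))) :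
    ∀ (k : ℕ), k ≤ n → ∀ (p : ℕ) (x : ExteriorAlgebra R M), x ∈ deg1 (firstSpan (R := R) b k) ^ (p + 1) →
      contractLeft φ x = 0 → ∃ y ∈ deg1 (firstSpan (R := R) b k) ^ (p + 2), contractLeft φ y = x := by
  intro k
  induction k with
  | zero =>
    intro _ p x hx _
    have h0 : firstSpan (R := R) b 0 = ⊥ := by simp [firstSpan]
    rw [h0, deg1, Submodule.map_bot, pow_succ, Submodule.mul_bot, Submodule.mem_bot] at hx
    exact ⟨0, zero_mem _, by rw [map_zero, hx]⟩
  | succ k ih =>
    intro hk p x hx hdx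
    let i : Fin n := ⟨k, hk⟩
    have hsucc : firstSpan (R := R) b (k + 1) = firstSpan (R := R) b k ⊔ R ∙ b i := by
      rw [firstSpan, show {j : Fin n | (j : ℕ) < k + 1} = insert i {j : Fin n | (j : ℕ) < k} from
        Set.ext fun j => by simp [i, Fin.ext_iff]; omega,
        Set.image_insert_eq, Submodule.span_insert, sup_comm]
    have hle : deg1 (firstSpan (R := R) b k) ≤ deg1 (firstSpan (R := R) b (k + 1)) :=
      Submodule.map_mono (hsucc ▸ le_sup_left)
    have hei : ExteriorAlgebra.ι R (b i) ∈ deg1 (firstSpan (R := R) b (k + 1)) :=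
      ⟨b i, hsucc ▸ Submodule.mem_sup_right (Submodule.mem_span_singleton_self _), rfl⟩
    let ε := b.coord i
    have hε : ∀ m ∈ firstSpan (R := R) b k, ε m = 0 := fun m hm => by
      suffices h : firstSpan (R := R) b k ≤ LinearMap.ker ε from LinearMap.mem_ker.1 (h hm)
      refine Submodule.span_le.2 ?_
      rintro _ ⟨j, hj, rfl⟩
      have : j ≠ i := fun h => by simp [h, i] at hj
      simp [ε, this]
    rw [hsucc] at hx
    obtain ⟨a, ha, c, hc, rfl⟩ := decompose _ _ p x hx
    have hda := contract_mem φ _ p a ha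
    rw [map_add, contract_mul] at hdx
    have hεc : contractLeft φ c = 0 := by
      have h := congrArg (contractLeft ε) hdx
      simp only [map_add, map_sub, map_smul, map_zero, contract_mul,
        contract_eq_zero ε _ hε p _ hda, contract_eq_zero ε _ hε p _ hc, smul_zero, zero_add, zero_sub] at h
      have hεcc : contractLeft ε (contractLeft φ c) = 0 := by
        cases p with
        | zero =>
          rw [pow_zero, Submodule.mem_one] at hc
          obtain ⟨r, rfl⟩ := hc
          rw [contractLeft_algebraMap, map_zero]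
        | succ p => exact contract_eq_zero ε _ hε p _ (contract_mem φ _ p c hc)
      rw [hεcc, mul_zero, sub_zero, neg_eq_zero, show ε (b i) = 1 by simp [ε], one_smul] at h
      exact h
    rw [hεc, mul_zero, sub_zero] at hdx
    have hc' : ∃ y ∈ deg1 (firstSpan (R := R) b k) ^ (p + 1), contractLeft φ y = c := by
      cases p with
      | succ p => exact ih (Nat.le_of_succ_le hk) p c hc hεc
      | zero =>
        rw [pow_zero, Submodule.mem_one] at hc
        obtain ⟨r, rfl⟩ := hc
        rw [zero_add, pow_one] at ha ⊢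
        obtain ⟨m, hm, rfl⟩ := ha
        rw [CliffordAlgebra.contractLeft_ι, Algebra.smul_def, ← map_mul, ← map_add] at hdx
        have h0 : φ m + φ (b i) * r = 0 :=
          (ExteriorAlgebra.algebraMap_leftInverse M).injective (hdx.trans (map_zero _).symm)
        let I : Ideal R := Ideal.ofList ((List.ofFn fun j => φ (b j)).take k)
        have hI : I = Submodule.map φ (firstSpan (R := R) b k) := by
          rw [Submodule.map_span, ← Set.image_comp]
          refine congrArg (Ideal.span (α := R)) (Set.ext fun v => ?_)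
          simp only [Set.mem_setOf_eq, List.mem_take_iff_getElem, List.getElem_ofFn, List.length_ofFn,
            Set.mem_image, Function.comp_apply]
          constructor
          · rintro ⟨j, hj, rfl⟩
            exact ⟨⟨j, by omega⟩, show j < k by omega, rfl⟩
          · rintro ⟨j, hj, rfl⟩
            exact ⟨j, lt_min hj j.2, rfl⟩
        have hr : r ∈ I := by
          have h := hreg.regular_mod_prev k (by simpa using hk)
          simp only [List.getElem_ofFn] at h
          have h2 : Submodule.Quotient.mk (p := I • (⊤ : Submodule R R)) (φ (b i) * r) = 0 := by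
            rw [Submodule.Quotient.mk_eq_zero, smul_eq_mul, Ideal.mul_top]
            rw [show φ (b i) * r = -φ m from eq_neg_of_add_eq_zero_right h0, hI]
            exact neg_mem ⟨m, hm, rfl⟩
          have h3 : Submodule.Quotient.mk (p := I • (⊤ : Submodule R R)) r = 0 := h (by
            show φ (b i) • Submodule.Quotient.mk (p := I • (⊤ : Submodule R R)) r = φ (b i) • (0 : R ⧸ I • (⊤ : Submodule R R))
            rw [smul_zero, ← Submodule.Quotient.mk_smul]; exact h2)
          rwa [Submodule.Quotient.mk_eq_zero, smul_eq_mul, Ideal.mul_top] at h3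
        rw [hI] at hr
        obtain ⟨m', hm', rfl⟩ := hr
        exact ⟨ExteriorAlgebra.ι R m', ⟨m', hm', rfl⟩, CliffordAlgebra.contractLeft_ι (0 : QuadraticForm R M) φ m'⟩
    obtain ⟨c', hc', rfl⟩ := hc'
    obtain ⟨d, hd, hdd⟩ := ih (Nat.le_of_succ_le hk) p (a + φ (b i) • c')
      (add_mem ha (Submodule.smul_mem _ _ hc')) (by rw [map_add, map_smul]; exact hdx)
    refine ⟨d - ExteriorAlgebra.ι R (b i) * c', sub_mem (pow_le_pow_left' hle (p + 2) hd) ?_, ?_⟩
    · rw [pow_succ' _ (p + 1)]
      exact Submodule.mul_mem_mul hei (pow_le_pow_left' hle (p + 1) hc')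
    · rw [map_sub, hdd, contract_mul]
      abel

/-- Positive degree cycles of the contraction are boundaries. -/
theorem exists_boundary (φ : M →ₗ[R] R) (b : Module.Basis (Fin n) R M)
    (hreg : RingTheory.Sequence.IsWeaklyRegular R (List.ofFn fun j => φ (b j))) (p : ℕ)
    (x : ↥(⋀[R]^(p + 1) M)) (hx : contractLeft φ (x : ExteriorAlgebra R M) = 0) :
    ∃ y : ↥(⋀[R]^(p + 2) M), contractLeft φ (y : ExteriorAlgebra R M) = x := by
  have h : deg1 (firstSpan (R := R) b n) = LinearMap.range (ExteriorAlgebra.ι R (M := M)) := by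
    have : firstSpan (R := R) b n = ⊤ := by
      rw [firstSpan, show {j : Fin n | (j : ℕ) < n} = Set.univ from Set.eq_univ_of_forall fun j => j.2,
        Set.image_univ, b.span_eq]
    rw [deg1, this, Submodule.map_top]
  obtain ⟨y, hy, hyx⟩ := exists_boundary_first φ b hreg n le_rfl p x
    (by rw [h]; exact x.2) hx
  rw [h] at hy
  exact ⟨⟨y, hy⟩, hyx⟩

/-- The Koszul boundary of a decomposable element is its contraction. -/
theorem coe_dGen (φ : M →ₗ[R] R) : ∀ (p : ℕ) (e : Fin (p + 1) → M),
    (KoszSh.dGen φ p e : ExteriorAlgebra R M) = contractLeft φ (ExteriorAlgebra.ιMulti R (p + 1) e) := by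
  have key : ∀ (p : ℕ) (e : Fin (p + 1) → M), (KoszSh.dGen φ p e : ExteriorAlgebra R M) =
      ∑ i : Fin (p + 1), ((-1 : R) ^ (i : ℕ) * φ (e i)) •
        ExteriorAlgebra.ιMulti R p (fun j => e (i.succAbove j)) := fun p e => by
    rw [KoszSh.dGen, Submodule.coe_sum]
    rfl
  intro p
  induction p with
  | zero =>
    intro e
    rw [key, ExteriorAlgebra.ιMulti_succ_apply, contract_mul, ExteriorAlgebra.ιMulti_zero_apply,
      contractLeft_one, mul_zero, sub_zero, Fin.sum_univ_one]
    simp
  | succ p ih =>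
    intro e
    rw [key, ExteriorAlgebra.ιMulti_succ_apply (v := e), contract_mul, ← ih, key, Fin.sum_univ_succ]
    simp only [Fin.val_zero, pow_zero, one_mul, Finset.mul_sum, mul_smul_comm]
    rw [sub_eq_add_neg, ← Finset.sum_neg_distrib]
    refine congrArg₂ (· + ·) rfl (Finset.sum_congr rfl fun i _ => ?_)
    rw [ExteriorAlgebra.ιMulti_succ_apply, ← neg_smul]
    have h0 : e (i.succ.succAbove 0) = e 0 := by rw [Fin.succ_succAbove_zero]
    have h1 : (Matrix.vecTail fun j => e (i.succ.succAbove j)) =
        fun j => Matrix.vecTail e (i.succAbove j) := by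
      funext j
      simp [Matrix.vecTail, Fin.succ_succAbove_succ]
    rw [h0, h1, Fin.val_succ, pow_succ]
    simp [Matrix.vecTail]

theorem contract_eq_of_rule {φ : M →ₗ[R] R} {p : ℕ} (d : ↥(⋀[R]^(p + 1) M) →ₗ[R] ↥(⋀[R]^p M))
    (hd : ∀ e, d (exteriorPower.ιMulti R (p + 1) e) = KoszSh.dGen φ p e) (x : ↥(⋀[R]^(p + 1) M)) :
    (d x : ExteriorAlgebra R M) = contractLeft φ (x : ExteriorAlgebra R M) := by
  have hx : x ∈ Submodule.span R (Set.range (exteriorPower.ιMulti R (p + 1) (M := M))) := by
    rw [exteriorPower.ιMulti_span]; trivial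
  induction hx using Submodule.span_induction with
  | mem x hx =>
    obtain ⟨e, rfl⟩ := hx
    rw [hd, coe_dGen, exteriorPower.ιMulti_apply_coe]
  | zero => simp
  | add x y _ _ hx hy => rw [map_add, Submodule.coe_add, Submodule.coe_add, map_add, hx, hy]
  | smul r x _ hx => rw [map_smul, Submodule.coe_smul, Submodule.coe_smul, map_smul, hx]

end Groth.Agent.KoszSh16
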