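import Groth.Agent.KoszSh16.Alg
import Groth.Agent.Lib.BasisHom
import Groth.Agent.FittX.Sheaf
import Groth.Agent.QCoh.LocFree
import Mathlib.RingTheory.Regular.Flat
import Mathlib.RingTheory.TensorProduct.IsBaseChangeFree
import Mathlib.Algebra.Homology.ShortComplex.HomologicalComplex

/-!
Koszul complexes of cosections of modules on schemes: exactness for a regular cosection, chain maps.
-/

set_option autoImplicit false
set_option linter.style.haveILetI false
set_option backward.isDefEq.respectTransparency false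
set_option backward.isDefEq.respectTransparency.types false

universe u

open CategoryTheory CategoryTheory.Limits AlgebraicGeometry TopologicalSpace Opposite
open Groth.Agent.AModX exteriorPower

noncomputable section

namespace Groth.Agent.KoszSh16

variable {X : Scheme.{u}} {E F : X.Modules} {s : E ⟶ Coh.structureModule X} {t : F ⟶ Coh.structureModule X}

/-- Opens with a basis of sections sent to a weakly regular sequence. -/
def Good (n : ℕ) (s : E ⟶ Coh.structureModule X) : Set X.Opens :=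
  {W | IsAffineOpen W ∧ ∃ b : Module.Basis (Fin n) Γ(X, W) Γ(E, W),
    RingTheory.Sequence.IsWeaklyRegular Γ(X, W) (List.ofFn fun k => KoszSh.secForm s W (b k))}

theorem basicOpen_mem_good {n : ℕ} (hE : Coh.IsQCoh E) {U : X.Opens} (hU : IsAffineOpen U)
    (h : U ∈ Good n s) (g : Γ(X, U)) : X.basicOpen g ∈ Good n s := by
  obtain ⟨-, b, hb⟩ := h
  letI := QCoh.basicModule g E
  haveI : IsScalarTower Γ(X, U) Γ(X, X.basicOpen g) Γ(E, X.basicOpen g) :=
    IsScalarTower.of_algebraMap_smul fun _ _ => rfl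
  haveI := hU.isLocalization_basicOpen g
  have hbc := FittX.isBaseChange_basicRes hE hU g
  refine ⟨hU.basicOpen g, hbc.basis b, ?_⟩
  have h2 := hb.of_isLocalization Γ(X, X.basicOpen g) (Submonoid.powers g)
  rw [List.map_ofFn] at h2
  convert h2 using 2
  refine funext fun k => ?_
  rw [IsBaseChange.basis_apply]
  show OmegaSh.fnSect X _ (s.app _ (res E (X.basicOpen_le g) (b k))) = _
  rw [app_res]
  rfl

theorem isBasis_good {n : ℕ} (hE : Coh.IsQCoh E)
    (hs : ∀ x : X, ∃ U : X.Opens, x ∈ U ∧ U ∈ Good n s) : Opens.IsBasis (Good n s) := by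
  rw [Opens.isBasis_iff_nbhd]
  intro V x hx
  obtain ⟨U, hxU, hU⟩ := hs x
  obtain ⟨g, hg, hxg⟩ := hU.1.exists_basicOpen_le (V := V) ⟨x, hx⟩ hxU
  exact ⟨X.basicOpen g, basicOpen_mem_good hE hU.1 hU g, hxg, hg⟩

theorem contract_d (C : KoszSh.Cx E s) (p : ℕ) (U : X.affineOpens) (x : Γ(C.K.X (p + 1), U.1)) :
    (C.loc p U ((C.K.d (p + 1) p).app U.1 x) : ExteriorAlgebra Γ(X, U.1) Γ(E, U.1)) =
      CliffordAlgebra.contractLeft (KoszSh.secForm s U.1)
        (C.loc (p + 1) U x : ExteriorAlgebra Γ(X, U.1) Γ(E, U.1)) := by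
  let dl : Γ(C.K.X (p + 1), U.1) →ₗ[Γ(X, U.1)] Γ(C.K.X p, U.1) :=
    { toFun := (C.K.d (p + 1) p).app U.1
      map_add' := map_add _
      map_smul' := fun r y => Scheme.Modules.Hom.app_smul (C.K.d (p + 1) p) r y }
  have h := contract_eq_of_rule
    (((C.loc p U).toLinearMap.comp dl).comp (C.loc (p + 1) U).symm.toLinearMap)
    (φ := KoszSh.secForm s U.1) (fun e => by
      show C.loc p U ((C.K.d (p + 1) p).app U.1 ((C.loc (p + 1) U).symm _)) = _
      rw [C.rule, LinearEquiv.apply_symm_apply]) (C.loc (p + 1) U x)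
  simpa [dl] using h

/-- The Koszul complex of a regular cosection is exact in positive degrees. -/
theorem exactAt {n : ℕ} (hE : Coh.IsQCoh E) (hs : ∀ x : X, ∃ U : X.Opens, x ∈ U ∧ U ∈ Good n s)
    (C : KoszSh.Cx E s) (p : ℕ) : C.K.ExactAt (p + 1) := by
  rw [C.K.exactAt_iff' (p + 2) (p + 1) p (by simp) (by simp)]
  refine BasisHom.exact_of_basis (isBasis_good hE hs) _ fun W hW x hx => ?_
  obtain ⟨hWa, b, hb⟩ := hW
  let U : X.affineOpens := ⟨W, hWa⟩
  have hx' : (C.K.d (p + 1) p).app W x = 0 := hx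
  have h := contract_d C p U x
  rw [show (C.K.d (p + 1) p).app U.1 x = 0 from hx', map_zero] at h
  obtain ⟨y, hy⟩ := exists_boundary (KoszSh.secForm s W) b hb p (C.loc (p + 1) U x) h.symm
  refine ⟨(C.loc (p + 2) U).symm y, ?_⟩
  show (C.K.d (p + 1 + 1) (p + 1)).app U.1 _ = x
  refine (C.loc (p + 1) U).injective (Subtype.ext ?_)
  rw [contract_d, LinearEquiv.apply_symm_apply]
  exact hy

theorem isBasis_affine : Opens.IsBasis {W : X.Opens | IsAffineOpen W} := X.isBasis_affineOpens

/-- Compatibility of `loc` with restriction, read on `p`-vectors of the exterior algebra. -/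
theorem res_loc_symm (C : KoszSh.Cx E s) (p : ℕ) (U V : X.affineOpens) (h : V.1 ≤ U.1)
    (r : Γ(X, U.1)) (e : Fin p → Γ(E, U.1)) :
    res (C.K.X p) h ((C.loc p U).symm (r • ιMulti _ p e)) =
      (C.loc p V).symm (resR h r • ιMulti _ p fun j => res E h (e j)) := by
  rw [map_smul, res_smul, map_smul]
  exact congrArg (resR h r • ·) (C.loc_res p U V h e)

/-- Two maps out of a term agreeing on decomposable sections over affine opens are equal. -/
theorem hom_ext (C : KoszSh.Cx E s) (p : ℕ) {N : X.Modules} (α β : C.K.X p ⟶ N)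
    (h : ∀ (U : X.affineOpens) (e : Fin p → Γ(E, U.1)),
      α.app U.1 ((C.loc p U).symm (ιMulti _ p e)) = β.app U.1 ((C.loc p U).symm (ιMulti _ p e))) : α = β := by
  refine Scheme.Modules.hom_ext _ _ fun V => ?_
  ext x
  refine BasisHom.eq_of_basis isBasis_affine _ _ fun W hW i => ?_
  rw [← app_res, ← app_res]
  let U : X.affineOpens := ⟨W, hW⟩
  obtain ⟨z, hz⟩ : ∃ z, (C.loc p U).symm z = res (C.K.X p) i x := (C.loc p U).symm.surjective _
  rw [← hz]
  have hzmem : z ∈ Submodule.span Γ(X, U.1) (Set.range (ιMulti Γ(X, U.1) p (M := Γ(E, U.1)))) := by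
    rw [ιMulti_span]; trivial
  clear hz
  induction hzmem using Submodule.span_induction with
  | mem z hz => obtain ⟨e, rfl⟩ := hz; exact h U e
  | zero => simp
  | add a b _ _ ha hb => rw [map_add, map_add, map_add, ha, hb]
  | smul r a _ ha =>
    rw [map_smul, Scheme.Modules.Hom.app_smul, Scheme.Modules.Hom.app_smul, ha]

/-- The map of Koszul terms induced by a map of modules. -/
theorem exists_term (f : E ⟶ F) (C : KoszSh.Cx E s) (D : KoszSh.Cx F t) (p : ℕ) :
    ∃ φ : C.K.X p ⟶ D.K.X p, ∀ (U : X.affineOpens) (e : Fin p → Γ(E, U.1)),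
      φ.app U.1 ((C.loc p U).symm (ιMulti _ p e)) =
        (D.loc p U).symm (ιMulti _ p fun j => f.app U.1 (e j)) := by
  let fl : ∀ U : X.Opens, Γ(E, U) →ₗ[Γ(X, U)] Γ(F, U) := fun U =>
    { toFun := f.app U
      map_add' := map_add _
      map_smul' := fun r y => Scheme.Modules.Hom.app_smul f r y }
  let g : ∀ W ∈ {W : X.Opens | IsAffineOpen W}, Γ(C.K.X p, W) → Γ(D.K.X p, W) := fun W hW x =>
    (D.loc p ⟨W, hW⟩).symm (exteriorPower.map p (fl W) (C.loc p ⟨W, hW⟩ x))
  have hg : ∀ (U : X.affineOpens) (e : Fin p → Γ(E, U.1)), g U.1 U.2 ((C.loc p U).symm (ιMulti _ p e)) =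
      (D.loc p U).symm (ιMulti _ p fun j => f.app U.1 (e j)) := fun U e => by
    simp only [g, LinearEquiv.apply_symm_apply, exteriorPower.map_apply_ιMulti]
    rfl
  obtain ⟨φ, hφ⟩ := BasisHom.exists_hom isBasis_affine g (fun W hW W' hW' i x => by
    let U : X.affineOpens := ⟨W, hW⟩
    let U' : X.affineOpens := ⟨W', hW'⟩
    obtain ⟨z, rfl⟩ := (C.loc p U).symm.surjective x
    have hzmem : z ∈ Submodule.span Γ(X, U.1) (Set.range (ιMulti Γ(X, U.1) p (M := Γ(E, U.1)))) := by
      rw [ιMulti_span]; trivial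
    induction hzmem using Submodule.span_induction with
    | mem z hz =>
      obtain ⟨e, rfl⟩ := hz
      have h1 := res_loc_symm C p U U' i 1 e
      rw [one_smul, map_one, one_smul] at h1
      rw [h1, hg U e, hg U' fun j => res E i (e j)]
      have h2 := res_loc_symm D p U U' i 1 fun j => f.app U.1 (e j)
      rw [one_smul, map_one, one_smul] at h2
      rw [h2]
      congr 2
      exact funext fun j => (app_res f i (e j)).symm
    | zero => simp [g]
    | add a b _ _ ha hb =>
      have hga : ∀ (V : X.Opens) (hV : IsAffineOpen V) (x y : Γ(C.K.X p, V)), g V hV (x + y) = g V hV x + g V hV y :=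
        fun V hV x y => by simp [g]
      rw [map_add, hga, map_add, ha, hb, map_add, hga]
    | smul r a _ ha =>
      have hgs : ∀ (V : X.Opens) (hV : IsAffineOpen V) (c : Γ(X, V)) (y : Γ(C.K.X p, V)), g V hV (c • y) = c • g V hV y :=
        fun V hV c y => by simp [g]
      rw [map_smul, hgs, res_smul, ha, res_smul, hgs])
    (fun W hW x x' => by simp [g]) (fun W hW r x => by simp [g])
  exact ⟨φ, fun U e => (hφ U.1 U.2 _).trans (hg U e)⟩

/-- The chain map of Koszul complexes induced by a map over the cosections. -/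
theorem existsUnique_chainMap (f : E ⟶ F) (hf : f ≫ t = s) (C : KoszSh.Cx E s) (D : KoszSh.Cx F t) :
    ∃! φ : C.K ⟶ D.K, ∀ (p : ℕ) (U : X.affineOpens) (e : Fin p → Γ(E, U.1)),
      (φ.f p).app U.1 ((C.loc p U).symm (ιMulti _ p e)) =
        (D.loc p U).symm (ιMulti _ p fun j => f.app U.1 (e j)) := by
  choose φ hφ using exists_term f C D
  refine ⟨⟨φ, fun i j hij => ?_⟩, hφ, fun ψ hψ => HomologicalComplex.hom_ext _ _ fun p =>
    hom_ext C p _ _ fun U e => (hψ p U e).trans (hφ p U e).symm⟩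
  obtain rfl : i = j + 1 := hij.symm
  refine hom_ext C (j + 1) _ _ fun U e => ?_
  show (D.K.d (j + 1) j).app U.1 ((φ (j + 1)).app U.1 _) = (φ j).app U.1 ((C.K.d (j + 1) j).app U.1 _)
  rw [hφ, D.rule, C.rule, KoszSh.dGen, KoszSh.dGen, map_sum, map_sum, map_sum]
  refine Finset.sum_congr rfl fun i _ => ?_
  rw [map_smul, map_smul, Scheme.Modules.Hom.app_smul, hφ]
  congr 1
  rw [← hf]
  rfl

end Groth.Agent.KoszSh16
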